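import Cfsg.Agent.LangTorus.Descent
import Cfsg.Agent.ChevTorus.Generators
import Cfsg.Agent.ChevTorus.Order

/-!
# Powers of Frobenius fixed points come from the group over the finite field

The torus need not be parametrised injectively; the `|det|`-th power of a fixed point descends.
-/

set_option autoImplicit false
set_option linter.style.haveILetI false

namespace CfsgLib.SylowTori

open Cfsg.Lie CfsgLib.Chevalley CfsgLib.ChevTorus CfsgLib.LangChev CfsgLib.LangTorus
open scoped MatrixGroups Matrix

variable {D : ChevalleyDatum} {C : Weyl.Cert D.rank} {M : CoxeterMatrix (Fin D.rank)}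
  {R : Weyl.RootTable}

/-- Tuples killed by a monomial map are killed by the absolute value of its determinant. -/
theorem pow_natAbs_det_eq_one {ι : Type*} [Fintype ι] [DecidableEq ι] {G : Type*} [CommGroup G]
    {A : Matrix ι ι ℤ} {c : ι → G} (hc : monAct A c = 1) : c ^ A.det.natAbs = 1 := by
  funext i
  have h1 : monAct (A * A.adjugate) c = 1 := by rw [monAct_mul, hc, map_one]
  rw [Matrix.mul_adjugate] at h1
  have h2 := congrFun h1 i
  simp only [monAct, MonoidHom.coe_mk, OneHom.coe_mk, Pi.one_apply] at h2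
  rw [Finset.prod_eq_single i (fun k _ hk => by simp [Matrix.one_apply_ne hk]) (by simp)] at h2
  simp only [Matrix.smul_apply, Matrix.one_apply_eq, smul_eq_mul, mul_one] at h2
  rw [Pi.pow_apply, Pi.one_apply]
  rcases Int.natAbs_eq A.det with e | e <;> rw [e] at h2
  · simpa using h2
  · simpa using h2

theorem torC_pow {F : Type*} [Field F] (c : Fin D.rank → Fˣ) (m : ℕ) :
    torC D c ^ m = torC D (c ^ m) := (map_pow (torHom D F) c m).symm

/-- A torus element killed by a number prime to the determinant lifts to a tuple killed by it. -/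
theorem eq_of_torC_eq {F : Type*} [Field F] (hW : GoodWeyl D) {m : ℕ}
    (hm : m.Coprime (cartanMat D).det.natAbs) {c c' : Fin D.rank → Fˣ} (hc : c ^ m = 1)
    (hc' : c' ^ m = 1) (he : torC D c = torC D c') : c = c' := by
  have h1 : torC D (c / c') = 1 := by
    show torHom D F (c / c') = 1
    rw [map_div, show torHom D F c = torHom D F c' from he, div_self']
  have h2 := pow_natAbs_det_eq_one ((torC_eq_one_iff hW _).1 h1)
  have h3 : (c / c') ^ m = 1 := by rw [div_pow, hc, hc', div_self']
  have h4 : orderOf (c / c') = 1 := Nat.dvd_one.1 (hm.gcd_eq_one ▸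
    Nat.dvd_gcd (orderOf_dvd_of_pow_eq_one h3) (orderOf_dvd_of_pow_eq_one h2))
  exact div_eq_one.1 (orderOf_eq_one_iff.1 h4)

variable {K : Type*} [Field K] (p f : ℕ) [ExpChar K p] {F : Type*} [Field F] [Fintype F]
  [Algebra F K]

theorem exists_preimage (hq : Fintype.card F = p ^ f) {z : K}
    (hz : iterateFrobenius K p f z = z) : ∃ z₀ : F, algebraMap F K z₀ = z :=
  CfsgLib.LinearOrders.exists_algebraMap_eq z (by rw [hq, ← iterateFrobenius_def]; exact hz)

theorem frobGL_torC (hq : Fintype.card F = p ^ f) (c : Fin D.rank → Kˣ) :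
    frobGL K p f (torC D c) = torC D (c ^ Fintype.card F) := by
  show Matrix.GeneralLinearGroup.map _ (torC D c) = _
  rw [map_torC]
  congr 1
  funext k
  exact Units.ext (by rw [hq]; simp [iterateFrobenius_def])

/-- The torus values of a fixed torus element lie in the finite field. -/
theorem exists_torVal_eq (hq : Fintype.card F = p ^ f) {c : Fin D.rank → Kˣ}
    (hc : frobGL K p f (torC D c) = torC D c) (r : Root D) :
    ∃ z : F, algebraMap F K z = (torVal c (Sum.inr r) : K) := by
  refine exists_preimage p f hq ?_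
  have h1 := congrArg (fun g : GL D.Idx K => (g : Matrix D.Idx D.Idx K) (Sum.inr r) (Sum.inr r)) hc
  simp only [frobGL_apply, coe_torC, Matrix.diagonal_apply_eq] at h1
  rw [iterateFrobenius_def]
  exact h1

/-- A fixed torus element normalises the image of the group over the finite field. -/
theorem conj_mem_range (hW : GoodWeyl D) (hq : Fintype.card F = p ^ f) {c : Fin D.rank → Kˣ}
    (hc : frobGL K p f (torC D c) = torC D c) {y : GL D.Idx K}
    (hy : y ∈ (D.group F).map (Matrix.GeneralLinearGroup.map (algebraMap F K))) :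
    torC D c * y * (torC D c)⁻¹ ∈
      (D.group F).map (Matrix.GeneralLinearGroup.map (algebraMap F K)) := by
  set ι := Matrix.GeneralLinearGroup.map (n := D.Idx) (algebraMap F K)
  suffices H : D.group F ≤
      (((D.group F).map ι).comap ((MulAut.conj (torC D c)).toMonoidHom.comp ι)) by
    obtain ⟨y₀, hy₀, rfl⟩ := Subgroup.mem_map.1 hy
    exact H hy₀
  conv_lhs => rw [← pos_sup_neg hW.good, posUnipotent_eq_rootGen hW.good,
    negUnipotent_eq_rootGen hW.good]
  refine sup_le (rootGen_le hW.good ?_) (rootGen_le hW.good ?_) <;> intro r _ t <;>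
  · obtain ⟨z, hz⟩ := exists_torVal_eq p f hq hc r
    refine Subgroup.mem_map.2 ⟨X hW.good r (z * t), X_mem_group _ _ _, ?_⟩
    show ι _ = torC D c * ι (X hW.good r t) * (torC D c)⁻¹
    simp only [ι, X_map, torC_conj_X hW.good, map_mul, hz]

/-- The `|det|`-th power of a fixed point comes from the group over the finite field. -/
theorem exists_descend_pow (hW : GoodWeyl D) (h : Weyl.RootGood C M R)
    (hq : Fintype.card F = p ^ f) {y : GL D.Idx K} (hy : y ∈ D.group K)
    (hfix : frobGL K p f y = y) :
    ∃ y₀ ∈ D.group F, Matrix.GeneralLinearGroup.map (algebraMap F K) y₀ =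
      y ^ (cartanMat D).det.natAbs := by
  obtain ⟨⟨w, b, u⟩, ⟨hb, hu, e⟩, huniq⟩ := existsUnique_form hW h hy
  dsimp only at hb hu e huniq
  obtain ⟨ω, -, hω⟩ := M.toCoxeterSystem.exists_isReduced w
  obtain ⟨k, hk, ek⟩ := exists_eq_nW_mul (F := K) hW h ⟨nWord hW K ω, nWord_mem hW K ω⟩
  rw [weylHom_nWord, ← hω] at ek
  change nWord hW K ω = _ at ek
  set n' := nWord hW K ω
  set b' := b * (nW hW h K w * k * (nW hW h K w)⁻¹)⁻¹ with hb'def
  have hkc : nW hW h K w * k * (nW hW h K w)⁻¹ ∈ D.borelSubgroup K :=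
    diag_le_borel D ((Subgroup.mem_normalizer_iff.1
      (monomial_le_normalizer hW (nW_mem hW h w)) k).1 hk)
  have hb' : b' ∈ D.borelSubgroup K := mul_mem hb (inv_mem hkc)
  have e' : b' * n' * u = y := by rw [hb'def, ek, ← e]; group
  obtain ⟨v, hv, d, hd, hvd⟩ := (mem_borel_iff hW).1 hb'
  rw [posUnipotent_eq hW.good] at hv
  obtain ⟨t, rfl⟩ := exists_sideR hW.toGoodComm false hv
  rw [diagonalSubgroup_eq_range hW] at hd
  obtain ⟨c, rfl⟩ := hd
  change sideR hW.good false t * torC D c = b' at hvd
  -- Frobenius fixes each factor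
  set φ := iterateFrobenius K p f
  have hn' : frobGL K p f n' = n' := nWord_map hW φ ω
  have hσb' : frobGL K p f b' = sideR hW.good false (φ ∘ t) *
      frobGL K p f (torC D c) := by
    rw [← hvd, map_mul]
    exact congrArg₂ (· * ·) (sideR_map _ _ _ _) rfl
  have hdiagσ : frobGL K p f (torC D c) ∈ D.diagonalSubgroup K := by
    rw [frobGL_torC p f hq]
    exact torC_mem_diag hW _
  have hσb : frobGL K p f b' ∈ D.borelSubgroup K := by
    rw [hσb']
    refine mul_mem (pos_le_borel D ?_) (diag_le_borel D hdiagσ)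
    rw [posUnipotent_eq hW.good]
    exact sideR_mem _ _ _
  have huσ : frobGL K p f u ∈ uW hW h K w := map_rootGen hW.good φ hu
  have h3 := huniq (w, frobGL K p f b' * (nW hW h K w * k * (nW hW h K w)⁻¹), frobGL K p f u)
    ⟨mul_mem hσb hkc, huσ, by
      have h4 := congrArg (frobGL K p f) e'
      rw [map_mul, map_mul, hn', hfix, ek] at h4
      rw [← h4]; group⟩
  simp only [Prod.mk.injEq, true_and] at h3
  obtain ⟨h5, hu1⟩ := h3
  have h6 : frobGL K p f b' = b' := by
    rw [hb'def] at *
    exact eq_mul_inv_of_mul_eq h5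
  rw [hσb'] at h6
  have h7 : (sideR hW.good false t)⁻¹ * sideR hW.good false (φ ∘ t) ∈
      D.posUnipotent K ⊓ D.diagonalSubgroup K := by
    refine Subgroup.mem_inf.2 ⟨?_, ?_⟩
    · rw [posUnipotent_eq hW.good]
      exact mul_mem (inv_mem (sideR_mem _ _ _)) (sideR_mem _ _ _)
    · have h8 := h6.trans hvd.symm
      rw [← eq_mul_inv_iff_mul_eq] at h8
      rw [h8, mul_assoc, inv_mul_cancel_left]
      exact mul_mem (torC_mem_diag hW _) (inv_mem hdiagσ)
  rw [pos_inf_diag hW, Subgroup.mem_bot, inv_mul_eq_one] at h7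
  have ht := sideR_injective hW.toGoodUni false h7.symm
  rw [← h7, ← hvd, mul_left_cancel_iff] at h6
  choose t₀ ht₀ using fun j => exists_preimage p f hq (congrFun ht j)
  have hupos := uW_le_pos hW h w hu
  rw [posUnipotent_eq hW.good] at hupos
  obtain ⟨s, rfl⟩ := exists_sideR hW.toGoodComm false hupos
  rw [show frobGL K p f (sideR hW.good false s) = sideR hW.good false (φ ∘ s) from
    sideR_map _ _ _ _] at hu1
  have hs := sideR_injective hW.toGoodUni false hu1
  choose s₀ hs₀ using fun j => exists_preimage p f hq (congrFun hs j)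
  set ι := Matrix.GeneralLinearGroup.map (n := D.Idx) (algebraMap F K)
  set H := (D.group F).map ι with hHdef
  -- the parts over the finite field
  have hH1 : sideR hW.good false t ∈ H :=
    Subgroup.mem_map.2 ⟨sideR hW.good false t₀, sideR_mem_group _ _ _, by
      rw [sideR_map, show algebraMap F K ∘ t₀ = t from funext ht₀]⟩
  have hH2 : n' * sideR hW.good false s ∈ H :=
    Subgroup.mem_map.2 ⟨nWord hW F ω * sideR hW.good false s₀,
      mul_mem (monomial_le_group hW (nWord_mem hW F ω)) (sideR_mem_group _ _ _), by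
      rw [map_mul, sideR_map, nWord_map, show algebraMap F K ∘ s₀ = s from funext hs₀]⟩
  set T := torC D c
  have hinv : ∀ z ∈ H, T⁻¹ * z * T ∈ H := by
    intro z hz
    have h8 : frobGL K p f (torC D c⁻¹) = torC D c⁻¹ := by
      rw [show torC D c⁻¹ = (torC D c)⁻¹ from map_inv (torHom D K) c, map_inv, h6]
    have h9 := conj_mem_range p f hW hq h8 hz
    rwa [show torC D c⁻¹ = (torC D c)⁻¹ from map_inv (torHom D K) c, inv_inv] at h9
  set y₁ := (T⁻¹ * sideR hW.good false t * T) * (n' * sideR hW.good false s)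
  have hy₁ : y₁ ∈ H := mul_mem (hinv _ hH1) hH2
  have hyT : y = T * y₁ := by rw [← e', ← hvd]; simp only [y₁]; group
  have hpow : ∀ m : ℕ, ∃ z ∈ H, y ^ m = T ^ m * z := by
    intro m
    induction m with
    | zero => exact ⟨1, one_mem _, by simp⟩
    | succ m ih =>
      obtain ⟨z, hz, ez⟩ := ih
      refine ⟨T⁻¹ * z * T * y₁, mul_mem (hinv z hz) hy₁, ?_⟩
      rw [pow_succ, ez, hyT, pow_succ]
      group
  obtain ⟨z, hz, ez⟩ := hpow (cartanMat D).det.natAbs
  have hTN : T ^ (cartanMat D).det.natAbs ∈ H := by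
    have h10 : torC D (c ^ Fintype.card F / c) = 1 := by
      show torHom D K (c ^ Fintype.card F / c) = 1
      rw [map_div, show torHom D K (c ^ Fintype.card F) = torHom D K c from
        (frobGL_torC p f hq c).symm.trans h6, div_self']
    have h11 := pow_natAbs_det_eq_one ((torC_eq_one_iff hW _).1 h10)
    rw [div_pow, div_eq_one, ← pow_mul, mul_comm, pow_mul] at h11
    set e₀ := c ^ (cartanMat D).det.natAbs
    have hc' : ∀ j, ∃ c₀ : Fˣ, Units.map (algebraMap F K : F →* K) c₀ = e₀ j := by
      intro j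
      obtain ⟨z, hz⟩ := exists_preimage p f hq (z := (e₀ j : K)) (by
        rw [iterateFrobenius_def, ← hq]
        exact congrArg Units.val (congrFun h11 j))
      exact ⟨Units.mk0 z (fun h0 => (e₀ j).ne_zero (by rw [← hz, h0, map_zero])), Units.ext hz⟩
    choose c₀ hc₀ using hc'
    refine Subgroup.mem_map.2 ⟨torC D c₀, diag_le_group hW (torC_mem_diag hW c₀), ?_⟩
    rw [map_torC, torC_pow]
    exact congrArg (torC D) (funext hc₀)
  have hfin : y ^ (cartanMat D).det.natAbs ∈ H := ez ▸ mul_mem hTN hz
  exact Subgroup.mem_map.1 hfin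

end CfsgLib.SylowTori
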