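import Cfsg.Agent.LangTorus.TorConj

/-!
# Fixed points of a twisted Frobenius on the torsion of a torus
-/

set_option autoImplicit false
set_option linter.style.haveILetI false

namespace CfsgLib.SylowTori

open Cfsg.Lie CfsgLib.Chevalley CfsgLib.ChevTorus CfsgLib.LangTorus CfsgLib.TorusWeyl
open scoped MatrixGroups Matrix

/-- The points fixed by an endomorphism and killed by `m`. -/
def fixTor {G : Type*} [CommGroup G] (φ : G →* G) (m : ℕ) : Subgroup G :=
  (φ / MonoidHom.id G).ker ⊓ (powMonoidHom m).ker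

theorem mem_fixTor {G : Type*} [CommGroup G] {φ : G →* G} {m : ℕ} {x : G} :
    x ∈ fixTor φ m ↔ φ x = x ∧ x ^ m = 1 := by
  simp [fixTor, div_eq_one]

variable {ι : Type*} [Fintype ι] {K : Type*} [Field K]

theorem finite_fixTor (φ : (ι → Kˣ) →* (ι → Kˣ)) (m : ℕ) [NeZero m] : Finite (fixTor φ m) :=
  Finite.of_injective
    (fun x : fixTor φ m => fun i => (⟨x.1 i, by
      have := congrFun (mem_fixTor.1 x.2).2 i
      rw [mem_rootsOfUnity]
      exact this⟩ : rootsOfUnity m K))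
    fun x y h => Subtype.ext (funext fun i => congrArg Subtype.val (congrFun h i))

variable [IsAlgClosed K]

/-- A fixed point killed by `r ^ j` is the `r`-th power of one killed by `r ^ (j + 1)`. -/
theorem exists_lift {r : ℕ} (hr : r.Prime) (φ : (ι → Kˣ) →* (ι → Kˣ)) {n Q : ℕ}
    (hn : ¬ r ∣ n) (hφ : ∀ v, φ^[n] v = v ^ Q) {j : ℕ} (hQ : Q ≡ 1 [MOD r ^ (j + 1)]) {t : ι → Kˣ}
    (ht : φ t = t) (htj : t ^ r ^ j = 1) : ∃ u, φ u = u ∧ u ^ r ^ (j + 1) = 1 ∧ u ^ r = t := by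
  haveI : NeZero (r : ℕ) := ⟨hr.ne_zero⟩
  have hroot : ∀ i, ∃ z : Kˣ, z ^ r = t i := fun i => by
    obtain ⟨z, hz⟩ := IsAlgClosed.exists_pow_nat_eq (t i : K) hr.pos
    have hz0 : z ≠ 0 := fun h0 => (t i).ne_zero (by rw [← hz, h0, zero_pow hr.ne_zero])
    exact ⟨Units.mk0 z hz0, Units.ext hz⟩
  choose v hv using hroot
  have hv' : v ^ r = t := funext hv
  obtain ⟨c, hc⟩ : ∃ c, n * c ≡ 1 [MOD r ^ (j + 1)] := by
    haveI : NeZero (r ^ (j + 1)) := ⟨pow_ne_zero _ hr.ne_zero⟩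
    refine ⟨((n : ZMod (r ^ (j + 1)))⁻¹).val, (ZMod.natCast_eq_natCast_iff _ _ _).1 ?_⟩
    push_cast
    rw [ZMod.natCast_val, ZMod.cast_id, ZMod.coe_mul_inv_eq_one n
      (Nat.Coprime.pow_right _ ((hr.coprime_iff_not_dvd.2 hn).symm))]
  have hred : ∀ (x : ι → Kˣ) (a b m : ℕ), x ^ m = 1 → a ≡ b [MOD m] → x ^ a = x ^ b :=
    fun x a b m hx hab => pow_eq_pow_iff_modEq.2 (hab.of_dvd (orderOf_dvd_of_pow_eq_one hx))
  have hvj : v ^ r ^ (j + 1) = 1 := by rw [pow_succ', pow_mul, hv', htj]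
  let u := ∏ i ∈ Finset.range n, φ^[i] (v ^ c)
  refine ⟨u, ?_, ?_, ?_⟩
  · have h1 : φ u = ∏ i ∈ Finset.range n, φ^[i + 1] (v ^ c) := by
      simp only [u, map_prod, Function.iterate_succ_apply']
    have h2 : φ^[n] (v ^ c) = φ^[0] (v ^ c) := by
      rw [hφ, Function.iterate_zero_apply, ← pow_mul]
      exact hred v _ _ _ hvj (by simpa using hQ.mul_left c)
    have h3 := Finset.prod_range_succ (fun i => φ^[i] (v ^ c)) n
    have h4 := Finset.prod_range_succ' (fun i => φ^[i] (v ^ c)) n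
    rw [h3, h2, ← h1] at h4
    exact (mul_right_cancel h4).symm
  · rw [← Finset.prod_pow]
    refine Finset.prod_eq_one fun i _ => ?_
    rw [← iterate_map_pow φ, ← pow_mul, mul_comm, pow_mul, hvj, one_pow, iterate_map_one]
  · rw [← Finset.prod_pow]
    have hfix : ∀ i, (φ^[i] (v ^ c)) ^ r = t ^ c := fun i => by
      rw [← iterate_map_pow φ, ← pow_mul, mul_comm, pow_mul, hv', iterate_map_pow]
      congr 1
      exact Function.iterate_fixed ht i
    rw [Finset.prod_congr rfl fun i _ => hfix i, Finset.prod_const, Finset.card_range, ← pow_mul,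
      mul_comm]
    rw [hred t _ _ _ htj (hc.of_dvd (pow_dvd_pow r (Nat.le_succ j))), pow_one]

/-- The torsion of a fixed point group is at least a power of its `r`-torsion. -/
theorem pow_le_natCard_fixTor {r : ℕ} (hr : r.Prime) (φ : (ι → Kˣ) →* (ι → Kˣ)) {n Q : ℕ}
    (hn : ¬ r ∣ n) (hφ : ∀ v, φ^[n] v = v ^ Q) {μ : ℕ} (hQ : Q ≡ 1 [MOD r ^ μ]) :
    ∀ j ≤ μ, Nat.card (fixTor φ r) ^ j ≤ Nat.card (fixTor φ (r ^ j)) := by
  intro j
  induction j with
  | zero =>
    intro _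
    haveI := finite_fixTor φ (r ^ 0)
    rw [pow_zero]
    exact Nat.card_pos
  | succ j ih =>
    intro hj
    haveI : NeZero (r ^ (j + 1)) := ⟨pow_ne_zero _ hr.ne_zero⟩
    haveI : NeZero (r ^ j) := ⟨pow_ne_zero _ hr.ne_zero⟩
    haveI := finite_fixTor φ (r ^ (j + 1))
    let π : fixTor φ (r ^ (j + 1)) →* fixTor φ (r ^ j) :=
      { toFun := fun x => ⟨x.1 ^ r, mem_fixTor.2 ⟨by rw [map_pow, (mem_fixTor.1 x.2).1], by
          rw [← pow_mul, ← pow_succ']; exact (mem_fixTor.1 x.2).2⟩⟩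
        map_one' := Subtype.ext (one_pow r)
        map_mul' := fun x y => Subtype.ext (mul_pow x.1 y.1 r) }
    have hsurj : Function.Surjective π := by
      intro t
      obtain ⟨h1, h2⟩ := mem_fixTor.1 t.2
      obtain ⟨u, hu1, hu2, hu3⟩ := exists_lift hr φ hn hφ
        (hQ.of_dvd (pow_dvd_pow r hj)) h1 h2
      exact ⟨⟨u, mem_fixTor.2 ⟨hu1, hu2⟩⟩, Subtype.ext hu3⟩
    have hker : Nat.card π.ker = Nat.card (fixTor φ r) :=
      Nat.card_congr
        { toFun := fun x => ⟨x.1.1, mem_fixTor.2 ⟨(mem_fixTor.1 x.1.2).1,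
            congrArg Subtype.val (MonoidHom.mem_ker.1 x.2)⟩⟩
          invFun := fun x => ⟨⟨x.1, mem_fixTor.2 ⟨(mem_fixTor.1 x.2).1, by
            rw [pow_succ', pow_mul, (mem_fixTor.1 x.2).2, one_pow]⟩⟩,
              MonoidHom.mem_ker.2 (Subtype.ext (mem_fixTor.1 x.2).2)⟩
          left_inv := fun x => rfl
          right_inv := fun x => rfl }
    have h := Subgroup.card_mul_index π.ker
    rw [Subgroup.index_ker, hker, MonoidHom.range_eq_top.2 hsurj, Subgroup.card_top] at h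
    rw [← h, pow_succ']
    exact Nat.mul_le_mul_left _ (ih (by omega))

variable {D : ChevalleyDatum} {C : Weyl.Cert D.rank} {M : CoxeterMatrix (Fin D.rank)}
  {R : Weyl.RootTable}

/-- The Frobenius of exponent `q` twisted by a Weyl group element. -/
noncomputable def twist (h : Weyl.RootGood C M R) (w : M.Group) (q : ℕ) :
    (Fin D.rank → Kˣ) →* (Fin D.rank → Kˣ) :=
  (monAct (wMat h w)).comp (powMonoidHom q)

omit [IsAlgClosed K] in
theorem twist_iterate (h : Weyl.RootGood C M R) (w : M.Group) (q : ℕ) :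
    ∀ (k : ℕ) (v : Fin D.rank → Kˣ),
      (twist (K := K) h w q)^[k] v = monAct (wMat h (w ^ k)) (v ^ q ^ k)
  | 0, v => by simp [wMat_one, monAct_one]
  | k + 1, v => by
    rw [Function.iterate_succ_apply', twist_iterate h w q k v, pow_succ' w, wMat_mul, monAct_mul]
    show monAct (wMat h w) (monAct (wMat h (w ^ k)) (v ^ q ^ k) ^ q) = _
    rw [← map_pow, ← pow_mul, ← pow_succ]

omit [IsAlgClosed K] in
/-- Torus elements conjugate by an element of the cell of `w` correspond under `w`. -/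
theorem torC_conj_of_mem_cell (hW : GoodWeyl D) (h : Weyl.RootGood C M R) {w : M.Group}
    {g : GL D.Idx K} (hg : g ∈ cell hW h K w) {c c' : Fin D.rank → Kˣ}
    (he : g * torC D c = torC D c' * g) : torC D (monAct (wMat h w) c) = torC D c' := by
  obtain ⟨b, hb, u, hu, e⟩ := exists_form hW h w hg
  set n := nW hW h K w with hn
  set t := torC D c with ht
  set t' := torC D c' with ht'
  have htd : t ∈ D.diagonalSubgroup K := torC_mem_diag hW c
  have htd' : t' ∈ D.diagonalSubgroup K := torC_mem_diag hW c'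
  have hnN : n ∈ D.monomialSubgroup K := nW_mem hW h w
  set k := n * t⁻¹ * n⁻¹ with hkdef
  have hk : k ∈ D.diagonalSubgroup K :=
    (Subgroup.mem_normalizer_iff.1 (monomial_le_normalizer hW hnN) t⁻¹).1 (inv_mem htd)
  have hu' : t * u * t⁻¹ ∈ uW hW h K w := diag_conj_rootGen hW htd hu
  have hb' : t' * b * k ∈ D.borelSubgroup K :=
    mul_mem (mul_mem (diag_le_borel D htd') hb) (diag_le_borel D hk)
  have e' : t' * b * k * n * (t * u * t⁻¹) = g := by
    calc _ = t' * (b * n * u) * t⁻¹ := by rw [hkdef]; group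
      _ = g := by rw [e, ← he, mul_inv_cancel_right]
  have h3 := (existsUnique_form hW h (cell_subset_group hW h hg)).unique
    (y₁ := (w, t' * b * k, t * u * t⁻¹)) (y₂ := (w, b, u)) ⟨hb', hu', e'⟩ ⟨hb, hu, e⟩
  simp only [Prod.mk.injEq, true_and] at h3
  obtain ⟨h1, -⟩ := h3
  obtain ⟨v, hv, d, hd, rfl⟩ := (mem_borel_iff hW).1 hb
  have hvU : t' * v * t'⁻¹ ∈ D.posUnipotent K :=
    (Subgroup.mem_normalizer_iff.1 (diag_le_normalizer_pos hW htd') v).1 hv
  have h4 : v⁻¹ * (t' * v * t'⁻¹) = d * (t' * d * k)⁻¹ := by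
    calc v⁻¹ * (t' * v * t'⁻¹) = v⁻¹ * (t' * (v * d) * k) * (t' * d * k)⁻¹ := by group
      _ = _ := by rw [h1]; group
  have h5 : d * (t' * d * k)⁻¹ = 1 := by
    have h8 : d * (t' * d * k)⁻¹ ∈ D.posUnipotent K ⊓ D.diagonalSubgroup K :=
      Subgroup.mem_inf.2 ⟨h4 ▸ mul_mem (inv_mem hv) hvU,
        mul_mem hd (inv_mem (mul_mem (mul_mem htd' hd) hk))⟩
    rw [pos_inf_diag hW] at h8
    exact Subgroup.mem_bot.1 h8
  rw [mul_inv_eq_one, diag_comm hW htd' hd, mul_assoc, left_eq_mul] at h5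
  have h6 := mon_conj_torC hW h ⟨n, hnN⟩ c
  rw [weylHom_nW hW h w hnN] at h6
  rw [← h6]
  calc n * t * n⁻¹ = t' * k * (n * t * n⁻¹) := by rw [h5, one_mul]
    _ = t' := by rw [hkdef]; group

end CfsgLib.SylowTori
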