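import Cfsg.Agent.SylowTori.Arith
import Cfsg.Agent.SylowTori.Descend
import Cfsg.Agent.SylowTori.Lift
import Cfsg.Agent.LangChev.Basic
import Cfsg.Agent.Chevalley.OrderFormula
import Mathlib.FieldTheory.Finite.Extension
import Mathlib.FieldTheory.IsAlgClosed.AlgebraicClosure
import Mathlib.GroupTheory.Sylow

/-!
# Sylow subgroups for large primes are homocyclic
-/

set_option autoImplicit false
set_option linter.style.haveILetI false

namespace CfsgLib.SylowTori

open Cfsg.Lie CfsgLib.Chevalley CfsgLib.ChevTorus CfsgLib.LangChev CfsgLib.LangTorus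
  CfsgLib.TorusWeyl CfsgLib.FGS.SylowGL
open scoped MatrixGroups Matrix Pointwise

variable {D : ChevalleyDatum} {C : Weyl.Cert D.rank} {M : CoxeterMatrix (Fin D.rank)}
  {R : Weyl.RootTable}

/-- The absolute value of a determinant from a Smith form. -/
theorem natAbs_det_of_smith {n : Type*} [Fintype n] [DecidableEq n] {A P P' Q Q' : Matrix n n ℤ}
    {d : n → ℕ} (h : P * P' = 1 ∧ P' * P = 1 ∧ Q * Q' = 1 ∧
      P * A * Q = Matrix.diagonal fun i => (d i : ℤ)) : A.det.natAbs = ∏ i, d i := by
  obtain ⟨hP, -, hQ, hd⟩ := h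
  have hu : ∀ {X Y : Matrix n n ℤ}, X * Y = 1 → X.det.natAbs = 1 := fun {X Y} e => by
    have := congrArg (fun m : Matrix n n ℤ => m.det.natAbs) e
    simp only [Matrix.det_mul, Int.natAbs_mul, Matrix.det_one, Int.natAbs_one] at this
    exact (mul_eq_one.1 this).1
  have h1 := congrArg (fun m : Matrix n n ℤ => m.det.natAbs) hd
  simp only [Matrix.det_mul, Int.natAbs_mul, hu hP, hu hQ, one_mul, mul_one, Matrix.det_diagonal]
    at h1
  rw [h1, ← Nat.cast_prod, Int.natAbs_natCast]

/-- The exponent of `r` in the order of the group. -/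
theorem factorization_natCard_group (hW : GoodWeyl D) (h : Weyl.RootGood C M R)
    {P P' Q Q' : Matrix (Fin D.rank) (Fin D.rank) ℤ} {dd : Fin D.rank → ℕ}
    (hsm : P * P' = 1 ∧ P' * P = 1 ∧ Q * Q' = 1 ∧
      P * cartanMat D * Q = Matrix.diagonal fun i => (dd i : ℤ))
    (degs : List ℕ) (hlen : degs.length = D.rank)
    (hpoinc : ∀ (x : ℕ) (_inst : Fintype M.Group), ∑ w : M.Group, x ^ M.toCoxeterSystem.length w =
      (degs.map fun d => ∑ i ∈ Finset.range d, x ^ i).prod)
    {F : Type*} [Field F] [Fintype F] {r : ℕ} [hr : Fact r.Prime]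
    (hrq : ¬ r ∣ Fintype.card F) (hre : ∀ e ∈ degs, ¬ r ∣ e) (hrd : ¬ r ∣ ∏ i, dd i) :
    (Nat.card (D.group F)).factorization r =
      (degs.filter fun e => orderOf (Fintype.card F : ZMod r) ∣ e).length *
        expo (Fintype.card F) r := by
  set q := Fintype.card F
  have hq : 2 ≤ q := Fintype.one_lt_card
  have hG := natCard_group_degrees hW h (F := F) (q := q) rfl degs rfl hlen
    (card_diagonalSubgroup hW hsm) (hpoinc q)
  obtain ⟨hne, hfac⟩ := factorization_degrees hq hrq degs hre
  have hc : ¬ r ∣ ∏ i, (q - 1).gcd (dd i) := fun hdvd =>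
    hrd (hdvd.trans (Finset.prod_dvd_prod_of_dvd _ _ fun i _ => Nat.gcd_dvd_right _ _))
  have hc0 : (∏ i, (q - 1).gcd (dd i)) ≠ 0 := fun h0 => hc (by rw [h0]; exact dvd_zero r)
  have h1 := congrArg (fun m : ℕ => m.factorization r) hG
  rw [Nat.factorization_mul hc0 Nat.card_pos.ne', Finsupp.add_apply,
    Nat.factorization_eq_zero_of_not_dvd hc, zero_add,
    Nat.factorization_mul (pow_ne_zero _ (by omega)) hne, Finsupp.add_apply, Nat.factorization_pow,
    Finsupp.smul_apply, Nat.factorization_eq_zero_of_not_dvd hrq, smul_zero, zero_add, hfac] at h1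
  exact h1

/-- **Sylow subgroups for a prime dividing neither `q` nor the order of the Weyl group.** -/
theorem homocyclic (hW : GoodWeyl D) (h : Weyl.RootGood C M R)
    {P P' Q Q' : Matrix (Fin D.rank) (Fin D.rank) ℤ} {dd : Fin D.rank → ℕ}
    (hsm : P * P' = 1 ∧ P' * P = 1 ∧ Q * Q' = 1 ∧
      P * cartanMat D * Q = Matrix.diagonal fun i => (dd i : ℤ))
    (degs : List ℕ) (hlen : degs.length = D.rank)
    (hpoinc : ∀ (x : ℕ) (_inst : Fintype M.Group), ∑ w : M.Group, x ^ M.toCoxeterSystem.length w =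
      (degs.map fun d => ∑ i ∈ Finset.range d, x ^ i).prod)
    (hdd : (∏ i, dd i) ∣ degs.prod) {F : Type*} [Field F] [Fintype F] {q : ℕ}
    (hq : Fintype.card F = q) (r : ℕ) [hr : Fact r.Prime] (hrq : ¬ r ∣ q) (hrW : ¬ r ∣ degs.prod)
    (S : Sylow r (D.group F)) :
    Nonempty (↥(S : Subgroup (D.group F)) ≃*
      (Fin (degs.filter fun e => orderOf (q : ZMod r) ∣ e).length →
        Multiplicative (ZMod (r ^ expo q r)))) := by
  classical
  subst hq
  set q := Fintype.card F with hqdef
  have hq2 : 2 ≤ q := Fintype.one_lt_card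
  have hrp : r.Prime := hr.out
  set d := orderOf (q : ZMod r) with hddef
  set a := (degs.filter fun e => orderOf (q : ZMod r) ∣ e).length
  set μ := expo q r
  have hd0 : 0 < d := order_pos hrq
  have hrd' : ¬ r ∣ d := by
    intro hdvd
    have h1 : d ∣ r - 1 := ZMod.orderOf_dvd_card_sub_one fun h0 =>
      hrq ((ZMod.natCast_eq_zero_iff _ _).1 h0)
    have h2 := Nat.le_of_dvd (by have := hrp.two_le; omega) (hdvd.trans h1)
    have := hrp.two_le
    omega
  have hμ : 0 < μ := by
    rw [show μ = (q ^ d - 1).factorization r from (factorization_top hq2 hrq).symm]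
    refine hrp.factorization_pos_of_dvd ?_ ((dvd_pow_sub_one_iff (by omega) d).2 dvd_rfl)
    have := two_le_pow hq2 hd0.ne'
    omega
  have hre : ∀ e ∈ degs, ¬ r ∣ e := fun e he hdvd => hrW (hdvd.trans (List.dvd_prod he))
  have hN : (cartanMat D).det.natAbs = ∏ i, dd i := natAbs_det_of_smith hsm
  have hrN : ¬ r ∣ (cartanMat D).det.natAbs := fun hdvd => hrW ((hN ▸ hdvd).trans hdd)
  have hdet : (cartanMat D).det ≠ 0 := fun h0 => hrN (by rw [h0]; exact dvd_zero r)
  have hcop : ∀ j : ℕ, (r ^ j).Coprime (cartanMat D).det.natAbs := fun j =>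
    Nat.Coprime.pow_left _ (hrp.coprime_iff_not_dvd.2 hrN)
  haveI := h.finite_group
  letI := Fintype.ofFinite M.Group
  have hWcard : Nat.card M.Group = degs.prod := by
    have h1 := hpoinc 1 inferInstance
    simp only [one_pow, Finset.sum_const, Finset.card_univ, smul_eq_mul, mul_one,
      Finset.card_range, List.map_id'] at h1
    rw [Nat.card_eq_fintype_card, h1]
  -- the fields
  obtain ⟨p, hchar⟩ := CharP.exists F
  haveI := hchar
  obtain ⟨f, hp, hqf⟩ := FiniteField.card F p
  haveI : Fact p.Prime := ⟨hp⟩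
  haveI : NeZero d := ⟨hd0.ne'⟩
  let E := FiniteField.Extension F p d
  letI : Fintype E := Fintype.ofFinite E
  have hEcard : Fintype.card E = q ^ d := by
    rw [← Nat.card_eq_fintype_card, FiniteField.natCard_extension, Nat.card_eq_fintype_card]
  let K := AlgebraicClosure E
  letI : Algebra F K := ((algebraMap E K).comp (algebraMap F E)).toAlgebra
  haveI : CharP K p := charP_of_injective_algebraMap (algebraMap F K).injective p
  set σ := frobGL (ι := D.Idx) K p (f : ℕ)
  set ιE := Matrix.GeneralLinearGroup.map (n := D.Idx) (algebraMap F E)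
  set ιEK := Matrix.GeneralLinearGroup.map (n := D.Idx) (algebraMap E K)
  set ι := Matrix.GeneralLinearGroup.map (n := D.Idx) (algebraMap F K)
  have hιinj : Function.Injective ι := fun x y e =>
    Units.ext (Matrix.map_injective (f := algebraMap F K) (algebraMap F K).injective
      (congrArg Units.val e))
  let Φ : ↥(D.group F) →* GL D.Idx K := ι.comp (D.group F).subtype
  have hΦ : Function.Injective Φ := fun x y e => Subtype.ext (hιinj e)
  have hσΦ : ∀ x, σ (Φ x) = Φ x := fun x => by
    refine Units.ext (Matrix.ext fun i j => ?_)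
    show algebraMap F K _ ^ p ^ (f : ℕ) = _
    rw [← map_pow, ← hqf, FiniteField.pow_card]
    rfl
  -- the exponents of r
  have hvF : (Nat.card (D.group F)).factorization r = a * μ :=
    factorization_natCard_group hW h hsm degs hlen hpoinc hrq hre (hN ▸ hrN)
  have hord1 : orderOf ((q ^ d : ℕ) : ZMod r) = 1 := by
    rw [orderOf_eq_one_iff, Nat.cast_pow, pow_orderOf_eq_one]
  have hrqd : ¬ r ∣ q ^ d := fun hdvd => hrq (hrp.dvd_of_dvd_pow hdvd)
  have hexpo : expo (q ^ d) r = μ := by
    have h1 := factorization_top (two_le_pow hq2 hd0.ne') hrqd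
    rw [hord1, pow_one] at h1
    exact h1.symm.trans (factorization_top hq2 hrq)
  have hvE : (Nat.card (D.group E)).factorization r = D.rank * μ := by
    rw [factorization_natCard_group hW h hsm degs hlen hpoinc (F := E) (hEcard ▸ hrqd) hre
      (hN ▸ hrN), hEcard, hexpo, hord1]
    simp [hlen]
  have hru : r ^ μ ∣ q ^ d - 1 := by
    rw [show μ = (q ^ d - 1).factorization r from (factorization_top hq2 hrq).symm]
    exact Nat.ordProj_dvd _ _
  -- the torus of the larger group
  let Z : Subgroup (Fin D.rank → Eˣ) := (powMonoidHom (r ^ μ)).ker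
  have hZcard : Nat.card Z = r ^ (D.rank * μ) := by
    have e : Z ≃ (Fin D.rank → (powMonoidHom (r ^ μ) : Eˣ →* Eˣ).ker) :=
      { toFun := fun x i => ⟨x.1 i, congrFun x.2 i⟩
        invFun := fun x => ⟨fun i => (x i).1, funext fun i => (x i).2⟩
        left_inv := fun x => rfl
        right_inv := fun x => rfl }
    rw [Nat.card_congr e, Nat.card_fun, IsCyclic.card_powMonoidHom_ker, Nat.card_units,
      Nat.card_eq_fintype_card (α := E), hEcard, Nat.card_eq_fintype_card (α := Fin D.rank),
      Fintype.card_fin, Nat.gcd_eq_right hru, ← pow_mul, mul_comm]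
  let ψ : Z →* ↥(D.group E) := ((torHom D E).comp Z.subtype).codRestrict _
    fun c => diag_le_group hW (torC_mem_diag hW c.1)
  have hψ : Function.Injective ψ := fun x y e => Subtype.ext
    (eq_of_torC_eq hW (hcop μ) x.2 y.2 (congrArg Subtype.val e))
  have hTcard : Nat.card ψ.range = r ^ (Nat.card (D.group E)).factorization r := by
    rw [Nat.card_congr (MonoidHom.ofInjective hψ).symm.toEquiv, hZcard, hvE]
  let T : Sylow r (D.group E) := Sylow.ofCard ψ.range hTcard
  let jE : ↥(D.group F) →* ↥(D.group E) := (ιE.comp (D.group F).subtype).codRestrict _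
    fun x => map_mem_group hW.good _ x.2
  obtain ⟨T', hT'⟩ := (S.isPGroup'.map jE).exists_le_sylow
  obtain ⟨g₀, hg₀⟩ := MulAction.exists_smul_eq (D.group E) T T'
  -- every element of the Sylow subgroup lies in one conjugate torus
  set g : GL D.Idx K := ιEK g₀.1
  have hg : g ∈ D.group K := map_mem_group hW.good _ g₀.2
  have htor : ∀ x ∈ (S : Subgroup (D.group F)), ∃ c : Fin D.rank → Kˣ, c ^ r ^ μ = 1 ∧
      Φ x = g * torC D c * g⁻¹ := by
    intro x hx
    have hx' : jE x ∈ (T' : Subgroup (D.group E)) := hT' ⟨x, hx, rfl⟩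
    rw [← hg₀, Sylow.coe_subgroup_smul, Subgroup.mem_pointwise_smul_iff_inv_smul_mem] at hx'
    obtain ⟨c, hc⟩ := MonoidHom.mem_range.1 hx'
    refine ⟨fun i => Units.map (algebraMap E K : E →* K) (c.1 i), ?_, ?_⟩
    · funext i
      rw [Pi.pow_apply, ← map_pow, ← Pi.pow_apply, show c.1 ^ r ^ μ = 1 from c.2, Pi.one_apply,
        map_one]
      rfl
    · have h2 := congrArg (fun y : D.group E => (y : GL D.Idx E)) hc
      have h3 : (ψ c : GL D.Idx E) = g₀.1⁻¹ * (jE x).1 * g₀.1 := by
        rw [h2]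
        simp [MulAut.smul_def, MulAut.conj_inv_apply]
      have h4 := congrArg ιEK h3
      rw [show ιEK (ψ c : GL D.Idx E) = torC D _ from map_torC _ _, map_mul, map_mul, map_inv,
        show ιEK (jE x).1 = Φ x from Units.ext (Matrix.ext fun i j => rfl)] at h4
      simp only [Subgroup.coe_subtype] at h4
      rw [h4]
      simp only [g]
      group
  have hexp : ∀ x : ↥(S : Subgroup (D.group F)), x ^ r ^ μ = 1 := by
    intro x
    obtain ⟨c, hc, e⟩ := htor x.1 x.2
    refine Subtype.ext (hΦ ?_)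
    rw [SubmonoidClass.coe_pow, map_pow, e, conj_pow, torC_pow, hc,
      show torC D (1 : Fin D.rank → Kˣ) = 1 from map_one (torHom D K), mul_one, mul_inv_cancel,
      OneMemClass.coe_one, map_one]
  letI : CommGroup ↥(S : Subgroup (D.group F)) :=
    { (inferInstance : Group ↥(S : Subgroup (D.group F))) with
      mul_comm := fun x y => by
        obtain ⟨c, -, ex⟩ := htor x.1 x.2
        obtain ⟨c', -, ey⟩ := htor y.1 y.2
        refine Subtype.ext (hΦ ?_)
        rw [Subgroup.coe_mul, Subgroup.coe_mul, map_mul, map_mul, ex, ey]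
        calc g * torC D c * g⁻¹ * (g * torC D c' * g⁻¹) = g * (torC D c * torC D c') * g⁻¹ := by
              group
          _ = g * (torC D c' * torC D c) * g⁻¹ := by rw [torC_mul, torC_mul, mul_comm c c']
          _ = _ := by group }
  have hScard : Nat.card ↥(S : Subgroup (D.group F)) = r ^ (a * μ) := by
    rw [S.card_eq_multiplicity, hvF]
  refine homocyclic_of_bounds hμ hScard hexp ?_
  -- the twisting element
  set z := g⁻¹ * σ g
  have hzG : z ∈ D.group K := mul_mem (inv_mem hg) (map_mem_group hW.good _ hg)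
  obtain ⟨w, hw⟩ := exists_mem_cell hW h hzG
  set φ := twist (K := K) h w q
  haveI : NeZero r := ⟨hrp.ne_zero⟩
  haveI := finite_fixTor φ r
  have hcop1 : r.Coprime (cartanMat D).det.natAbs := by simpa using hcop 1
  -- the `r`-torsion of the Sylow subgroup maps into the fixed points
  have hrank : Nat.card (powMonoidHom r :
      ↥(S : Subgroup (D.group F)) →* ↥(S : Subgroup (D.group F))).ker ≤ Nat.card (fixTor φ r) := by
    have key : ∀ x : (powMonoidHom r :
        ↥(S : Subgroup (D.group F)) →* ↥(S : Subgroup (D.group F))).ker,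
        ∃ c ∈ fixTor φ r, Φ x.1.1 = g * torC D c * g⁻¹ := by
      rintro ⟨x, hx⟩
      obtain ⟨c, hc, e⟩ := htor x.1 x.2
      refine ⟨c, ?_, e⟩
      have hxr : (x : D.group F) ^ r = 1 := congrArg Subtype.val (show x ^ r = 1 from hx)
      have h1 : g * torC D c ^ r * g⁻¹ = 1 := by rw [← conj_pow, ← e, ← map_pow, hxr, map_one]
      have h2 : torC D (c ^ r) = 1 := by
        rw [← torC_pow]
        calc torC D c ^ r = g⁻¹ * (g * torC D c ^ r * g⁻¹) * g := by group
          _ = 1 := by rw [h1]; group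
      have hcr : c ^ r = 1 := eq_of_torC_eq hW (hcop μ) (c := c ^ r) (c' := 1)
        (by rw [← pow_mul, mul_comm, pow_mul, hc, one_pow]) (one_pow _)
        (by rw [h2]; exact (map_one (torHom D K)).symm)
      have h5 : z * torC D (c ^ q) = torC D c * z := by
        have h6 := hσΦ x.1
        rw [e, map_mul, map_mul, map_inv,
          show σ (torC D c) = torC D (c ^ q) from frobGL_torC p (f : ℕ) hqf c] at h6
        calc z * torC D (c ^ q) = g⁻¹ * (σ g * torC D (c ^ q) * (σ g)⁻¹) * σ g := by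
              simp only [z]; group
          _ = _ := by rw [h6]; simp only [z]; group
      have h7 := torC_conj_of_mem_cell hW h hw h5
      have h8 : monAct (wMat h w) (c ^ q) = c := eq_of_torC_eq hW hcop1
        (by rw [← map_pow, ← pow_mul, mul_comm, pow_mul, hcr, one_pow, map_one]) hcr h7
      exact mem_fixTor.2 ⟨h8, hcr⟩
    choose c hc he using key
    refine Nat.card_le_card_of_injective (fun x => (⟨c x, hc x⟩ : fixTor φ r)) fun x y hxy => ?_
    refine Subtype.ext (Subtype.ext (hΦ ?_))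
    rw [he x, he y, show c x = c y from congrArg Subtype.val hxy]
  refine hrank.trans ?_
  -- a number bound for the fixed points
  rcases Nat.lt_or_ge 1 (Nat.card (fixTor φ r)) with hnt | htriv
  swap
  · exact htriv.trans (Nat.one_le_pow _ _ hrp.pos)
  haveI := (Finite.one_lt_card_iff_nontrivial).1 hnt
  obtain ⟨⟨t, ht⟩, ht1⟩ := exists_ne (1 : fixTor φ r)
  obtain ⟨htfix, htr⟩ := mem_fixTor.1 ht
  set n := orderOf w
  have hn : ¬ r ∣ n := fun hdvd => hrW (hWcard ▸ hdvd.trans (orderOf_dvd_natCard w))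
  have hiter : ∀ v, φ^[n] v = v ^ q ^ n := fun v => by
    rw [twist_iterate, pow_orderOf_eq_one, wMat_one, monAct_one]
  have hdn : d ∣ n := by
    by_contra hdn
    apply ht1
    have h1 : t ^ q ^ n = t := by rw [← hiter]; exact Function.iterate_fixed htfix n
    have h2 : t ^ (q ^ n - 1) = 1 := by
      have e : q ^ n = (q ^ n - 1) + 1 := (Nat.sub_add_cancel (Nat.one_le_pow _ _ (by omega))).symm
      rw [e, pow_succ] at h1
      exact mul_eq_right.1 h1
    have h3 : (q ^ n - 1).Coprime r := (hrp.coprime_iff_not_dvd.2 fun hdvd =>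
      hdn ((dvd_pow_sub_one_iff (by omega) n).1 hdvd)).symm
    refine Subtype.ext (orderOf_eq_one_iff.1 ?_)
    exact Nat.dvd_one.1 (h3.gcd_eq_one ▸
      Nat.dvd_gcd (orderOf_dvd_of_pow_eq_one h2) (orderOf_dvd_of_pow_eq_one htr))
  have hQ : q ^ n ≡ 1 [MOD r ^ μ] := by
    refine ((Nat.modEq_iff_dvd' (Nat.one_le_pow _ _ (by omega))).2 (hru.trans ?_)).symm
    obtain ⟨m, hm⟩ := hdn
    rw [hm, pow_mul]
    exact Nat.sub_one_dvd_pow_sub_one (q ^ d) m
  have hlow := pow_le_natCard_fixTor hrp φ hn hiter hQ μ le_rfl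
  -- the fixed points descend
  haveI : NeZero (r ^ μ) := ⟨pow_ne_zero _ hrp.ne_zero⟩
  haveI := finite_fixTor φ (r ^ μ)
  set nw := nW hW h K w with hnw
  have hnwN : nw ∈ D.monomialSubgroup K := nW_mem hW h w
  obtain ⟨g', hg', hgn'⟩ := lang hW h hdet p (f : ℕ) f.pos (h₀ := nw)
    (monomial_le_group hW hnwN)
  have hσg' : σ g' = g' * nw := by rw [← hgn', mul_inv_cancel_left]
  let θ : fixTor φ (r ^ μ) →* GL D.Idx K :=
    (MulAut.conj g').toMonoidHom.comp ((torHom D K).comp (fixTor φ (r ^ μ)).subtype)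
  have hθ : Function.Injective θ := fun x y e => Subtype.ext
    (eq_of_torC_eq hW (hcop μ) (mem_fixTor.1 x.2).2 (mem_fixTor.1 y.2).2
      ((MulAut.conj g').injective e))
  have hθH : θ.range ≤ Φ.range := by
    rintro _ ⟨x, rfl⟩
    obtain ⟨hx1, hx2⟩ := mem_fixTor.1 x.2
    have hθx : θ x = g' * torC D x.1 * g'⁻¹ := rfl
    have hfix : σ (θ x) = θ x := by
      rw [hθx, map_mul, map_mul, map_inv, hσg',
        show σ (torC D x.1) = torC D (x.1 ^ q) from frobGL_torC p (f : ℕ) hqf x.1]
      have h6 := mon_conj_torC hW h ⟨nw, hnwN⟩ (x.1 ^ q)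
      rw [weylHom_nW hW h w hnwN] at h6
      calc g' * nw * torC D (x.1 ^ q) * (g' * nw)⁻¹
          = g' * (nw * torC D (x.1 ^ q) * nw⁻¹) * g'⁻¹ := by group
        _ = _ := by rw [h6]; exact congrArg (fun z => g' * torC D z * g'⁻¹) hx1
    have hxG : θ x ∈ D.group K :=
      mul_mem (mul_mem hg' (diag_le_group hW (torC_mem_diag hW x.1))) (inv_mem hg')
    obtain ⟨y₀, hy₀, ey⟩ := exists_descend_pow (F := F) p (f : ℕ) hW h hqf hxG hfix
    set N := (cartanMat D).det.natAbs
    have hord : θ x ^ r ^ μ = 1 := by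
      rw [hθx, conj_pow, torC_pow, hx2, show torC D (1 : Fin D.rank → Kˣ) = 1 from
        map_one (torHom D K), mul_one, mul_inv_cancel]
    obtain ⟨m, hm⟩ := exists_pow_eq_self_of_coprime (x := θ x)
      ((hcop μ).symm.coprime_dvd_right (orderOf_dvd_of_pow_eq_one hord))
    refine ⟨⟨y₀, hy₀⟩ ^ m, ?_⟩
    rw [map_pow, show Φ ⟨y₀, hy₀⟩ = θ x ^ N from ey, hm]
  have hXpow : ∃ e, Nat.card (fixTor φ (r ^ μ)) = r ^ e := by
    refine IsPGroup.iff_card.1 fun x => ⟨μ, Subtype.ext ?_⟩
    exact (mem_fixTor.1 x.2).2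
  obtain ⟨e, he⟩ := hXpow
  have hdvd : r ^ e ∣ Nat.card (D.group F) := by
    rw [← he, Nat.card_congr (MonoidHom.ofInjective hθ).toEquiv]
    exact (Subgroup.card_dvd_of_le hθH).trans
      (dvd_of_eq (Nat.card_congr (MonoidHom.ofInjective hΦ).symm.toEquiv))
  have hle : e ≤ a * μ := hvF ▸ (hrp.pow_dvd_iff_le_factorization Nat.card_pos.ne').1 hdvd
  refine (Nat.pow_le_pow_iff_left hμ.ne').1 (hlow.trans ?_)
  rw [he, ← pow_mul]
  exact Nat.pow_le_pow_right hrp.pos hle

end CfsgLib.SylowTori
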