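import Cfsg.Agent.FGS.SylowGL
import Mathlib.GroupTheory.FiniteAbelian.Basic

/-!
# Numbers and abelian groups behind homocyclic Sylow subgroups
-/

set_option autoImplicit false
set_option linter.style.haveILetI false

namespace CfsgLib.SylowTori

open CfsgLib.FGS.SylowGL

variable {q r : ℕ} [hr : Fact r.Prime]

/-- The exponent of `r` in `q ^ i - 1` for `i` prime to `r`. -/
theorem factorization_pow_sub_one' (hq : 2 ≤ q) (hrq : ¬ r ∣ q) {i : ℕ} (hri : ¬ r ∣ i) :
    (q ^ i - 1).factorization r = if orderOf (q : ZMod r) ∣ i then expo q r else 0 := by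
  split_ifs with h
  · obtain ⟨j, hj⟩ := h
    set d := orderOf (q : ZMod r) with hd
    have hd0 : 0 < d := order_pos hrq
    have hrj : ¬ r ∣ j := fun h => hri (hj ▸ dvd_mul_of_dvd_right h d)
    have hgs : ¬ r ∣ ∑ l ∈ Finset.range j, (q ^ d) ^ l := by
      rw [← ZMod.natCast_eq_zero_iff]
      push_cast
      simp only [hd, pow_orderOf_eq_one, one_pow, Finset.sum_const, Finset.card_range,
        nsmul_eq_mul, mul_one]
      rwa [ZMod.natCast_eq_zero_iff]
    have h1 : 1 ≤ q ^ d := Nat.one_le_pow _ _ (by omega)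
    have hne : q ^ d - 1 ≠ 0 := by
      have : 2 ≤ q ^ d := hq.trans (Nat.le_self_pow hd0.ne' q)
      omega
    rw [hj, pow_mul, ← geom_sum_mul_of_one_le h1 j,
      Nat.factorization_mul (fun h0 => hgs (by rw [h0]; exact dvd_zero r)) hne,
      Finsupp.add_apply, Nat.factorization_eq_zero_of_not_dvd hgs, zero_add, factorization_top hq hrq]
  · exact Nat.factorization_eq_zero_of_not_dvd fun hdvd =>
      h ((dvd_pow_sub_one_iff (by omega) i).1 hdvd)

omit hr in
theorem two_le_pow (hq : 2 ≤ q) {i : ℕ} (hi : i ≠ 0) : 2 ≤ q ^ i :=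
  hq.trans (Nat.le_self_pow hi q)

/-- The exponent of `r` in `∏ (q ^ e - 1)` over degrees prime to `r`. -/
theorem factorization_degrees (hq : 2 ≤ q) (hrq : ¬ r ∣ q) :
    ∀ degs : List ℕ, (∀ e ∈ degs, ¬ r ∣ e) →
      (degs.map fun e => q ^ e - 1).prod ≠ 0 ∧ (degs.map fun e => q ^ e - 1).prod.factorization r =
        (degs.filter fun e => orderOf (q : ZMod r) ∣ e).length * expo q r
  | [], _ => by simp
  | e :: L, h => by
    obtain ⟨hne, hL⟩ := factorization_degrees hq hrq L fun x hx => h x (List.mem_cons_of_mem _ hx)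
    have he : ¬ r ∣ e := h e List.mem_cons_self
    have he0 : e ≠ 0 := fun h0 => he (h0 ▸ dvd_zero r)
    have h2 : q ^ e - 1 ≠ 0 := by
      have := two_le_pow hq he0
      omega
    rw [List.map_cons, List.prod_cons]
    refine ⟨mul_ne_zero h2 hne, ?_⟩
    rw [Nat.factorization_mul h2 hne, Finsupp.add_apply, factorization_pow_sub_one' hq hrq he, hL,
      List.filter_cons]
    by_cases hd : orderOf (q : ZMod r) ∣ e
    · simp [hd, add_mul, add_comm]
    · simp [hd]

/-- An abelian group of order `r ^ (a * μ)` and exponent dividing `r ^ μ` with at most `r ^ a`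
solutions of `x ^ r = 1` is homocyclic. -/
theorem homocyclic_of_bounds {P : Type*} [CommGroup P] [Finite P] {a μ : ℕ} (hμ : 0 < μ)
    (hcard : Nat.card P = r ^ (a * μ)) (hexp : ∀ x : P, x ^ r ^ μ = 1)
    (hrank : Nat.card (powMonoidHom r : P →* P).ker ≤ r ^ a) :
    Nonempty (P ≃* (Fin a → Multiplicative (ZMod (r ^ μ)))) := by
  classical
  obtain ⟨ι, hι, n, hn, ⟨e⟩⟩ := CommGroup.equiv_prod_multiplicative_zmod_of_finite P
  letI := hι
  have hpk : ∀ i, ∃ k, 1 ≤ k ∧ k ≤ μ ∧ n i = r ^ k := by
    intro i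
    have h1 : (Pi.mulSingle i (Multiplicative.ofAdd (1 : ZMod (n i))) :
        (j : ι) → Multiplicative (ZMod (n j))) ^ r ^ μ = 1 := by
      rw [← e.apply_symm_apply (Pi.mulSingle i _), ← map_pow, hexp, map_one]
    have h2 := congrFun h1 i
    rw [Pi.pow_apply, Pi.mulSingle_eq_same, Pi.one_apply, ← ofAdd_nsmul, ofAdd_eq_one,
      nsmul_one, ZMod.natCast_eq_zero_iff] at h2
    obtain ⟨k, hk, hk'⟩ := (Nat.dvd_prime_pow hr.out).1 h2
    refine ⟨k, ?_, hk, hk'⟩
    rcases k with _ | k
    · have := hn i
      rw [hk', pow_zero] at this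
      omega
    · omega
  choose k hk1 hkμ hk using hpk
  haveI : ∀ i, NeZero (n i) := fun i => ⟨by have := hn i; omega⟩
  have hsum : ∑ i, k i = a * μ := by
    have h1 := Nat.card_congr e.toEquiv
    rw [hcard, Nat.card_pi] at h1
    simp only [Nat.card_congr Multiplicative.toAdd, Nat.card_zmod, hk,
      Finset.prod_pow_eq_pow_sum] at h1
    exact (Nat.pow_right_injective hr.out.two_le h1).symm
  have hle : Fintype.card ι ≤ a := by
    have h1 : Nat.card (powMonoidHom r : P →* P).ker =
        Nat.card (∀ i, (powMonoidHom r : Multiplicative (ZMod (n i)) →* _).ker) := by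
      refine Nat.card_congr
        { toFun := fun x i => ⟨e x.1 i, by
            have h := x.2
            rw [MonoidHom.mem_ker, powMonoidHom_apply] at h ⊢
            rw [← Pi.pow_apply, ← map_pow, h, map_one]
            rfl⟩
          invFun := fun x => ⟨e.symm fun i => (x i).1, by
            rw [MonoidHom.mem_ker, powMonoidHom_apply, ← map_pow]
            rw [show (fun i => (x i).1) ^ r = 1 from funext fun i => (x i).2, map_one]⟩
          left_inv := fun x => Subtype.ext (e.symm_apply_apply _)
          right_inv := fun x => funext fun i => Subtype.ext (by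
            show e (e.symm _) i = _
            rw [e.apply_symm_apply]) }
    rw [h1, Nat.card_pi, Finset.prod_congr rfl fun i _ => show _ = r by
      rw [IsCyclic.card_powMonoidHom_ker, Nat.card_congr Multiplicative.toAdd, Nat.card_zmod, hk i]
      exact Nat.gcd_eq_right (dvd_pow_self r (by have := hk1 i; omega))] at hrank
    rw [Finset.prod_const, Finset.card_univ] at hrank
    exact (Nat.pow_le_pow_iff_right hr.out.one_lt).1 hrank
  have hle' : a ≤ Fintype.card ι := by
    have : ∑ i, k i ≤ Fintype.card ι * μ := by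
      refine (Finset.sum_le_sum fun i _ => hkμ i).trans_eq ?_
      simp
    rw [hsum] at this
    exact Nat.le_of_mul_le_mul_right this hμ
  have hcardι : Fintype.card ι = a := le_antisymm hle hle'
  have hkeq : ∀ i, k i = μ := by
    by_contra hne
    simp only [not_forall] at hne
    obtain ⟨i, hi⟩ := hne
    have : ∑ j, k j < ∑ _j : ι, μ :=
      Finset.sum_lt_sum (fun j _ => hkμ j) ⟨i, Finset.mem_univ i, lt_of_le_of_ne (hkμ i) hi⟩
    rw [hsum, Finset.sum_const, Finset.card_univ, hcardι, smul_eq_mul] at this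
    omega
  refine ⟨e.trans ?_⟩
  refine (MulEquiv.piCongrRight fun i => (AddEquiv.toMultiplicative
    (ZMod.ringEquivCongr ((hk i).trans (by rw [hkeq i]))).toAddEquiv)).trans ?_
  exact MulEquiv.arrowCongr (Fintype.equivFinOfCardEq hcardι) (MulEquiv.refl _)

end CfsgLib.SylowTori
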